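import Mathlib
import Groth.Agent.Lib.Helper5.FibReg.Chart
import Groth.Agent.Lib.Helper5.RelPC.FlatTerms
import Groth.Agent.Lib.Helper5.RelPC.CPAt5
import Groth.Agent.Lib.Helper5.RelPC.FlatLfp
import Groth.Agent.Lib.Helper5.Perf.FtFpCharts
import Groth.Agent.Lib.Helper5.Perf.ProjLocFree
import Groth.Agent.Lib.Helper5.Perf.RelPerf
import Groth.Agent.Lib.Helper5.Perf.PCSingle
import Groth.Agent.Lib.Helper5.Perf.RpushOpen

/-!
# The alternative definition of relative perfectness (helper5)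

`f : X ⟶ S` flat, locally of finite presentation.  `E ∈ D(O_X)` is `S`-perfect iff locally on `X`
it is represented by a bounded complex of finitely presented O_X-modules flat over `S`.
-/

set_option autoImplicit false
set_option linter.unusedSectionVars false
set_option linter.unusedVariables false
set_option linter.style.haveILetI false
universe u
open CategoryTheory CategoryTheory.Limits Opposite TopologicalSpace AlgebraicGeometry
open scoped ZeroObject

attribute [local instance] HasDerivedCategory.standard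

namespace Groth.Agent.Lib.Helper5.RelPerfAlt

open Groth.Agent.Lib.Helper5.RelTor Groth.Agent.Lib.Helper5.QC Groth.Agent.Lib.Helper5.BCGeo
  Groth.Agent.Lib.Helper5.AffComm Groth.Agent.Lib.Helper5.PCTri Groth.Agent.Lib.Helper5.Thick
  Groth.Agent.Lib.Helper5.IsoSq Groth.Agent.Helper5.TorAmp Groth.Agent.Lib.Helper5.FibReg
  Groth.Agent.Lib.Helper5.PerfTri Groth.Agent.Lib.Helper5.LocNull Groth.Agent.Lib.Helper5.RelPerfTen
  Groth.Agent.Lib.Helper5.DerSchTor

section FP
variable {X : Scheme.{u}}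

/-- cokernels of maps of finite locally free modules are finitely presented -/
theorem isFP_of_cokernel_flf (F : X.Modules) {P Z : X.Modules} (t : P ⟶ Z)
    (hP : FlatMod.IsFinLocFree P) (hZ : FlatMod.IsFinLocFree Z) (e : F ≅ cokernel t) :
    CohB1.IsFP F := by
  apply Groth.Agent.Lib.Helper5.FtFp.isFP_of_local_coker_flf
  intro x
  refine ⟨⊤, trivial, P.restrict (⊤ : X.Opens).ι, Z.restrict (⊤ : X.Opens).ι,
    (Scheme.Modules.restrictFunctor (⊤ : X.Opens).ι).map t,
    isFinLocFree_restrict _ P hP, isFinLocFree_restrict _ Z hZ, ⟨?_⟩⟩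
  exact (Scheme.Modules.restrictFunctor (⊤ : X.Opens).ι).mapIso e ≪≫
    PreservesCokernel.iso (Scheme.Modules.restrictFunctor (⊤ : X.Opens).ι) t

theorem isFP_of_isFinLocFree (F : X.Modules) (hF : FlatMod.IsFinLocFree F) : CohB1.IsFP F :=
  isFP_of_cokernel_flf F (0 : (0 : X.Modules) ⟶ F)
    (Groth.Agent.Lib.Helper5.RpushOpen.isFinLocFree_of_isZero _ (isZero_zero _)) hF
    cokernelZeroIsoTarget.symm

theorem isZero_opcycles_of_isZero' (P : CochainComplex X.Modules ℤ) (i : ℤ)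
    (h : IsZero (P.X i)) : IsZero (P.opcycles i) := by
  rw [IsZero.iff_id_eq_zero, ← cancel_epi (P.pOpcycles i)]
  exact h.eq_of_src _ _

end FP

section Main
variable {X S : Scheme.{u}} (f : X ⟶ S)

/-- **local representatives by bounded complexes of finitely presented modules flat over the
base** -/
theorem exists_fp_flat_rep [Flat f] [LocallyOfFinitePresentation f] (E : DCoh.D X)
    (hpc : ∀ m : ℤ, DCoh.IsPseudoCoherentD m E) (htor : DCoh.LocHasFiniteRelTorDim f E) (x : X) :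
    ∃ V : X.Opens, x ∈ V ∧ ∃ (G : CochainComplex (V : Scheme.{u}).Modules ℤ) (a b : ℤ),
      DCoh.VanishesOutside G a b ∧
      (∀ i : ℤ, CohB1.IsFP (G.X i) ∧ FlatMod.IsFlatOver (V.ι ≫ f) (G.X i)) ∧
      Nonempty ((DCoh.restrictD V.ι).obj E ≅ DerivedCategory.Q.obj G) := by
  let F₀ : CochainComplex X.Modules ℤ := DerivedCategory.Q.objPreimage E
  let e₀ : DCoh.toD X F₀ ≅ E := DerivedCategory.Q.objObjPreimageIso E
  obtain ⟨V₁, a, b, hxV₁, hV₁⟩ := (locHasFiniteRelTorDim_iff f E F₀ e₀).1 htor x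
  obtain ⟨U, hU, hxU, hUV₁⟩ : ∃ U : X.Opens, IsAffineOpen U ∧ x ∈ U ∧ U ≤ V₁ := by
    obtain ⟨_, ⟨U, hU : IsAffineOpen U, rfl⟩, hxU, hUV₁⟩ :=
      X.isBasis_affineOpens.exists_subset_of_mem_open hxV₁ V₁.2
    exact ⟨U, hU, hxU, hUV₁⟩
  have hq : DCoh.IsQCohD E := isQCohD_of_isPC _ hpc
  obtain ⟨M, ⟨eM⟩⟩ := exists_tilde E hq hU
  have hMpc : DRing.IsPseudoCoherent' Γ(X, U) M :=
    (Groth.Agent.Helper5.PCBuild.s2066 M).1.1 (fun m =>
      (Groth.Agent.Lib.Helper5.TildePC.isPseudoCoherentD_tildeD_iff Γ(X, U) M m).1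
        (isPC_of_iso eM.symm (isPC_restrictD hU.fromSpec (hpc m))))
  obtain ⟨K₀, c, hc, hff, ⟨eK⟩⟩ := hMpc
  let PS : CochainComplex (Spec Γ(X, U)).Modules ℤ := (tCx Γ(X, U)).obj K₀
  let P : CochainComplex (U : Scheme.{u}).Modules ℤ := (RCx hU.isoSpec.hom).obj PS
  have hcomp : hU.isoSpec.hom ≫ hU.fromSpec = U.ι := by
    rw [IsAffineOpen.fromSpec, Iso.hom_inv_id_assoc]
  have eP : DCoh.toD _ P ≅ (DCoh.restrictD U.ι).obj E :=
    ((Scheme.Modules.restrictFunctor hU.isoSpec.hom).mapDerivedCategoryFactors.app PS).symm ≪≫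
      (DCoh.restrictD hU.isoSpec.hom).mapIso
        (((tilde.functor Γ(X, U)).mapDerivedCategoryFactors.app K₀).symm ≪≫
          (DCoh.tildeD Γ(X, U)).mapIso eK ≪≫ eM) ≪≫
      (restrictDCompObjIso hU.isoSpec.hom hU.fromSpec E).symm ≪≫
      Groth.Agent.Lib.Helper5.TildePC.restrictDCongrObjIso hcomp E
  have hPflf : ∀ i : ℤ, FlatMod.IsFinLocFree (P.X i) := by
    intro i
    obtain ⟨h1, h2⟩ := hff i
    exact isFinLocFree_restrict hU.isoSpec.hom _
      (Groth.Agent.Lib.Helper5.ProjLocFree.isFinLocFree_tilde_of_free Γ(X, U) (K₀.X i))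
  have hPc : ∀ i : ℤ, c < i → IsZero (P.X i) := fun i hi =>
    (Scheme.Modules.restrictFunctor hU.isoSpec.hom).map_isZero
      ((tilde.functor Γ(X, U)).map_isZero (hc i hi))
  let g : (U : Scheme.{u}) ⟶ S := U.ι ≫ f
  haveI : Flat g := inferInstance
  have hPtor : ∀ u : (U : Scheme.{u}), DerSch.HasTorAmplitudeAt g a b P u := by
    intro u
    have h1 := hV₁ (U.ι.base u) (hUV₁ (show U.ι.base u ∈ U from u.2))
    have h2 := hasTorAmplitudeAt_rcx f U.ι u F₀ a b h1
    refine hasTorAmplitudeAt_of_iso g u ?_ a b h2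
    exact ((Scheme.Modules.restrictFunctor U.ι).mapDerivedCategoryFactors.app F₀).symm ≪≫
      (DCoh.restrictD U.ι).mapIso e₀ ≪≫ eP.symm
  have hfl : ∀ i : ℤ, FlatMod.IsFlatOver g (P.X i) := fun i =>
    Groth.Agent.Lib.Helper5.LpullLib.isFlatOver_of_isFinLocFree g _ (hPflf i)
  have hop : FlatMod.IsFlatOver g (P.opcycles a) := isFlatOver_opcycles g P hfl c hPc a b hPtor
  haveI hGE : P.IsGE a := by
    rw [CochainComplex.isGE_iff]
    intro i hi
    exact exactAt_of_hasTorAmplitude g P a b hPtor i (Or.inl hi)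
  have hq' : QuasiIso (P.πTruncGE a) := inferInstance
  refine ⟨U, hxU, P.truncGE a, a, c, ?_, ?_, ⟨eP.symm ≪≫ asIso (DerivedCategory.Q.map (P.πTruncGE a))⟩⟩
  · intro i hi
    rcases hi with hi | hi
    · exact (P.truncGE a).isZero_of_isStrictlyGE a i hi
    · rcases lt_trichotomy i a with h1 | h1 | h1
      · exact (P.truncGE a).isZero_of_isStrictlyGE a i h1
      · subst h1
        exact (isZero_opcycles_of_isZero' P i (hPc i hi)).of_iso (P.truncGEXIsoOpcycles i)
      · exact (hPc i hi).of_iso (P.truncGEXIso a i h1)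
  · intro i
    rcases lt_trichotomy i a with h1 | h1 | h1
    · have hz : IsZero ((P.truncGE a).X i) := (P.truncGE a).isZero_of_isStrictlyGE a i h1
      exact ⟨isFP_of_isFinLocFree _
        (Groth.Agent.Lib.Helper5.RpushOpen.isFinLocFree_of_isZero _ hz),
        Groth.Agent.Lib.Helper5.FlatSingle.isFlatOver_of_isZero g hz⟩
    · subst h1
      refine ⟨?_, Groth.Agent.Lib.Helper5.FlatSingle.isFlatOver_of_iso g
        (P.truncGEXIsoOpcycles i).symm hop⟩
      refine isFP_of_cokernel_flf _ (P.d (i - 1) i) (hPflf (i - 1)) (hPflf i) ?_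
      have hc1 := P.opcyclesIsCokernel (i - 1) i (by simp)
      have hc2 := cokernelIsCokernel (P.d (i - 1) i)
      have e2 := hc1.coconePointUniqueUpToIso hc2
      exact P.truncGEXIsoOpcycles i ≪≫ e2
    · exact ⟨isFP_of_isFinLocFree _ (fun y => by
          obtain ⟨W, n, hy, ⟨e⟩⟩ := hPflf i y
          exact ⟨W, n, hy, ⟨(Scheme.Modules.restrictFunctor W.ι).mapIso
            (P.truncGEXIso a i h1) ≪≫ e⟩⟩),
        Groth.Agent.Lib.Helper5.FlatSingle.isFlatOver_of_iso g (P.truncGEXIso a i h1).symm (hfl i)⟩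

/-- the converse: local representatives by bounded complexes of finitely presented modules flat
over the base give relative perfectness -/
theorem relPerfect_of_fp_flat_rep [Flat f] [LocallyOfFinitePresentation f] (E : DCoh.D X)
    (h : ∀ x : X, ∃ V : X.Opens, x ∈ V ∧ ∃ (G : CochainComplex (V : Scheme.{u}).Modules ℤ)
      (a b : ℤ), DCoh.VanishesOutside G a b ∧
      (∀ i : ℤ, CohB1.IsFP (G.X i) ∧ FlatMod.IsFlatOver (V.ι ≫ f) (G.X i)) ∧
      Nonempty ((DCoh.restrictD V.ι).obj E ≅ DerivedCategory.Q.obj G)) :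
    (∀ m : ℤ, DCoh.IsPseudoCoherentD m E) ∧ DCoh.LocHasFiniteRelTorDim f E := by
  constructor
  · intro m
    apply Groth.Agent.Lib.Helper5.PCBiprod.isPC_local
    intro x
    obtain ⟨V, hxV, G, a, b, hab, hterms, ⟨e⟩⟩ := h x
    refine ⟨V, hxV, isPC_of_iso e.symm ?_⟩
    let g : (V : Scheme.{u}) ⟶ S := V.ι ≫ f
    haveI : Flat g := inferInstance
    haveI : LocallyOfFinitePresentation g := inferInstance
    haveI : LocallyOfFiniteType g := inferInstance
    have hg : ∀ n : ℤ, DerSch.IsNPseudoCoherent g n := fun n =>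
      Groth.Agent.Lib.Helper5.FlatLfp.isNPC_of_flat_lfp g n
    have hfp : ∀ i : ℤ, DerSch.IsPseudoCoherentRel g (-1)
        (DCoh.toD _ ((HomologicalComplex.single _ (ComplexShape.up ℤ) 0).obj (G.X i))) := fun i =>
      (Groth.Agent.Lib.Helper5.CPAtLib.isPC_iff_rel_of_isNPC g hg (-1) _).1
        (isPC_of_iso (Groth.Agent.Lib.Helper5.FlatTerms.toDSingleIso (G.X i)).symm
          (Groth.Agent.Lib.Helper5.PCSingle.isPC_of_isFP (G.X i) (hterms i).1))
    exact (Groth.Agent.Lib.Helper5.CPAtLib.isPC_iff_rel_of_isNPC g hg m _).2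
      (Groth.Agent.Lib.Helper5.FlatTerms.isPseudoCoherentRelAll_of_flat_terms g G b
        (fun i hi => hab i (Or.inr hi)) (fun i => (hterms i).2) hfp m)
  · intro x
    obtain ⟨V, hxV, G, a, b, hab, hterms, ⟨e⟩⟩ := h x
    refine ⟨V, a, b, hxV, fun F' ⟨eF'⟩ => ⟨G, hab, fun i => (hterms i).2, ⟨?_⟩⟩⟩
    exact e.symm ≪≫ (DCoh.restrictD V.ι).mapIso eF'.symm ≪≫
      (Scheme.Modules.restrictFunctor V.ι).mapDerivedCategoryFactors.app F'

/-- **the alternative definition of relative perfectness** -/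
theorem relPerfect_iff_fp_flat_rep [Flat f] [LocallyOfFinitePresentation f] (E : DCoh.D X) :
    ((∀ m : ℤ, DCoh.IsPseudoCoherentD m E) ∧ DCoh.LocHasFiniteRelTorDim f E) ↔
      ∀ x : X, ∃ V : X.Opens, x ∈ V ∧ ∀ F : CochainComplex X.Modules ℤ,
        Nonempty (DCoh.toD X F ≅ E) →
        ∃ (G : CochainComplex (V : Scheme.{u}).Modules ℤ) (a b : ℤ), DCoh.VanishesOutside G a b ∧
          (∀ i : ℤ, CohB1.IsFP (G.X i) ∧ FlatMod.IsFlatOver (V.ι ≫ f) (G.X i)) ∧
          Nonempty (DerivedCategory.Q.obj ((DCoh.restrictCx V).obj F) ≅ DerivedCategory.Q.obj G) := by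
  constructor
  · rintro ⟨hpc, htor⟩ x
    obtain ⟨V, hxV, G, a, b, hab, hterms, ⟨e⟩⟩ := exists_fp_flat_rep f E hpc htor x
    refine ⟨V, hxV, fun F ⟨eF⟩ => ⟨G, a, b, hab, hterms, ⟨?_⟩⟩⟩
    exact ((Scheme.Modules.restrictFunctor V.ι).mapDerivedCategoryFactors.app F).symm ≪≫
      (DCoh.restrictD V.ι).mapIso eF ≪≫ e
  · intro h
    apply relPerfect_of_fp_flat_rep f E
    intro x
    obtain ⟨V, hxV, hV⟩ := h x
    let F₀ : CochainComplex X.Modules ℤ := DerivedCategory.Q.objPreimage E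
    let e₀ : DCoh.toD X F₀ ≅ E := DerivedCategory.Q.objObjPreimageIso E
    obtain ⟨G, a, b, hab, hterms, ⟨e⟩⟩ := hV F₀ ⟨e₀⟩
    refine ⟨V, hxV, G, a, b, hab, hterms, ⟨?_⟩⟩
    exact (DCoh.restrictD V.ι).mapIso e₀.symm ≪≫
      (Scheme.Modules.restrictFunctor V.ι).mapDerivedCategoryFactors.app F₀ ≪≫ e

end Main

end Groth.Agent.Lib.Helper5.RelPerfAlt
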